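import Mathlib
import Cfsg.Agent.Lib.Helper1.BG14b.Zhat
import Cfsg.Agent.Lib.Helper1.BG14.SigmaATI
import Cfsg.Agent.Lib.Helper1.BG14.KappaCyc
import Cfsg.Agent.Lib.Helper21.BG14a
import Cfsg.Agent.Lib.Helper21.BG13t
import Cfsg.Agent.Lib.Helper21.QuatSylow2
import Cfsg.Agent.Lib.Helper18.KStarB
import Cfsg.Agent.Lib.Helper28.BGtT
import Cfsg.Agent.Lib.Helper13.BG14P
import Cfsg.Agent.Lib.Helper11.LemLA
import Cfsg.Agent.S1378
import Cfsg.Agent.S1429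
import Cfsg.Agent.S1430
import Cfsg.Agent.S1432
import Cfsg.Agent.S1446

set_option autoImplicit false

namespace Cfsg.Agent.Lib.Helper1.BG14c

open Cfsg Cfsg.Agent.Lib.Helper18 Cfsg.Agent.Lib.Helper28.BGt
open Cfsg.Agent.Lib.Helper1.BG14b

variable {G : Type*} [Group G] [Finite G]

theorem piHall_conj_into {π : Set ℕ} {M K Y : Subgroup G} (hMs : Group.IsSolvable M)
    (hK : Cfsg.IsPiHallOf π K M) (hYM : Y ≤ M)
    (hY : ∀ p : ℕ, p.Prime → p ∣ Nat.card Y → p ∈ π) :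
    ∃ m ∈ M, ∀ y ∈ Y, m⁻¹ * y * m ∈ K := by
  have hcard : Nat.card M = Nat.card K * K.relIndex M :=
    (Cfsg.Agent.Lib.Helper1.BG12.card_mul_relIndex_of_le hK.1).symm
  apply Cfsg.Agent.Lib.Helper1.BG14.hall_conj_into hMs hK.1 hYM hcard
  · apply Nat.coprime_of_dvd
    intro p hp h1 h2
    exact hK.2.2 p hp (hK.2.1 p hp h1) h2
  · apply Nat.coprime_of_dvd
    intro p hp h1 h2
    exact hK.2.2 p hp (hY p hp h1) h2

theorem sigma_disjoint (hG : Cfsg.IsMinSimpleOddOrder G) {M H : Subgroup G} (hM : IsCoatom M)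
    (hH : IsCoatom H) (hnc : ∀ g : G, H ≠ conjSub g M) {p : ℕ} (hpM : p ∈ Cfsg.sigma M) :
    p ∉ Cfsg.sigma H := by
  intro hpH
  obtain ⟨g, hg⟩ := (Cfsg.Agent.S1378.result hG).2 M H hM hH ⟨p, hpM, hpH⟩
  exact hnc g hg

theorem sigmaCore_inf_eq_bot (hG : Cfsg.IsMinSimpleOddOrder G) {M H : Subgroup G}
    (hM : IsCoatom M) (hH : IsCoatom H) (hnc : ∀ g : G, H ≠ conjSub g M) :
    Cfsg.sigmaCore M ⊓ Cfsg.sigmaCore H = ⊥ := by
  apply Cfsg.Agent.Lib.Helper1.BG15.eq_bot_of_forall_prime_not_dvd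
  intro q hq hqd
  have h1 : q ∈ Cfsg.sigma M :=
    prime_sigmaCore hG hM hq (hqd.trans (Subgroup.card_dvd_of_le inf_le_left))
  have h2 : q ∈ Cfsg.sigma H :=
    prime_sigmaCore hG hH hq (hqd.trans (Subgroup.card_dvd_of_le inf_le_right))
  exact sigma_disjoint hG hM hH hnc h1 h2

omit [Finite G] in
theorem commute_of_cross {M H : Subgroup G}
    (hbot : Cfsg.sigmaCore M ⊓ Cfsg.sigmaCore H = ⊥) {d x : G}
    (hd : d ∈ Cfsg.sigmaCore M) (hdH : d ∈ H) (hx : x ∈ Cfsg.sigmaCore H) (hxM : x ∈ M) :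
    d * x = x * d := by
  have h1 : d * x * d⁻¹ * x⁻¹ ∈ Cfsg.sigmaCore H :=
    (Cfsg.sigmaCore H).mul_mem
      (conj_mem_of_le_normalizer (le_normalizer_sigmaCore H) hdH hx)
      ((Cfsg.sigmaCore H).inv_mem hx)
  have h2 : d * (x * d⁻¹ * x⁻¹) ∈ Cfsg.sigmaCore M :=
    (Cfsg.sigmaCore M).mul_mem hd
      (conj_mem_of_le_normalizer (le_normalizer_sigmaCore M) hxM
        ((Cfsg.sigmaCore M).inv_mem hd))
  have h3 : d * x * d⁻¹ * x⁻¹ ∈ Cfsg.sigmaCore M ⊓ Cfsg.sigmaCore H := by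
    refine Subgroup.mem_inf.mpr ⟨?_, h1⟩
    have e : d * x * d⁻¹ * x⁻¹ = d * (x * d⁻¹ * x⁻¹) := by group
    rw [e]; exact h2
  rw [hbot, Subgroup.mem_bot] at h3
  calc d * x = (d * x * d⁻¹ * x⁻¹) * (x * d) := by group
    _ = x * d := by rw [h3, one_mul]

def TypeP1 (M : Subgroup G) : Prop :=
  ∀ q : ℕ, q.Prime → q ∣ Nat.card M → q ∉ Cfsg.sigma M → q ∈ Cfsg.kappa M

theorem typeP1_fac (hG : Cfsg.IsMinSimpleOddOrder G) {M K : Subgroup G} (hM : IsCoatom M)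
    (hP1 : TypeP1 M) (hK : Cfsg.IsPiHallOf (Cfsg.kappa M) K M) :
    ∀ m ∈ M, ∃ s ∈ Cfsg.sigmaCore M, ∃ t ∈ K, m = s * t := by
  have hKn : K ≤ Subgroup.normalizer (Cfsg.sigmaCore M : Set G) :=
    hK.1.trans (le_normalizer_sigmaCore M)
  have hle : Cfsg.sigmaCore M ⊔ K ≤ M := sup_le (sigmaCore_le M) hK.1
  obtain ⟨hσH, -, -⟩ := Cfsg.Agent.Lib.Helper11.BenderO.sigma_hall hG M hM
  have hrel : (Cfsg.sigmaCore M ⊔ K).relIndex M = 1 := by
    by_contra hne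
    obtain ⟨p, hp, hpd⟩ := Nat.exists_prime_and_dvd hne
    have hpM : p ∣ Nat.card M := hpd.trans (Subgroup.relIndex_dvd_card _ _)
    have h1 : (Cfsg.sigmaCore M).relIndex (Cfsg.sigmaCore M ⊔ K) *
        (Cfsg.sigmaCore M ⊔ K).relIndex M = (Cfsg.sigmaCore M).relIndex M :=
      Subgroup.relIndex_mul_relIndex _ _ _ le_sup_left hle
    have h2 : K.relIndex (Cfsg.sigmaCore M ⊔ K) *
        (Cfsg.sigmaCore M ⊔ K).relIndex M = K.relIndex M :=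
      Subgroup.relIndex_mul_relIndex _ _ _ le_sup_right hle
    by_cases hσ : p ∈ Cfsg.sigma M
    · apply hσH.2.2 p hp hσ
      rw [← h1]
      exact Dvd.dvd.mul_left hpd _
    · apply hK.2.2 p hp (hP1 p hp hpM hσ)
      rw [← h2]
      exact Dvd.dvd.mul_left hpd _
  have hM' : M ≤ Cfsg.sigmaCore M ⊔ K := Subgroup.relIndex_eq_one.mp hrel
  intro m hm
  have h1 : m ∈ ((Cfsg.sigmaCore M ⊔ K : Subgroup G) : Set G) := hM' hm
  rw [Subgroup.coe_mul_of_right_le_normalizer_left (Cfsg.sigmaCore M) K hKn] at h1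
  obtain ⟨s, hs, t, ht, rfl⟩ := h1
  exact ⟨s, hs, t, ht, rfl⟩

theorem not_tau2_of_typeP1 {M : Subgroup G} (hP1 : TypeP1 M) (p : ℕ) : p ∉ Cfsg.tau2 M := by
  rintro ⟨hp, hσ, -, hr1⟩
  haveI : Fact p.Prime := ⟨hp⟩
  apply hr1
  apply Cfsg.Agent.Lib.Helper1.BG14.kappa_pRankLE_one
  apply hP1 p hp _ hσ
  unfold Cfsg.PRankLE at hr1
  push Not at hr1
  obtain ⟨A, -, hA, hcard⟩ := hr1
  have hA1 : A ≠ ⊥ := by
    intro h
    rw [h, Subgroup.card_bot] at hcard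
    have := hp.one_lt
    rw [pow_one] at hcard
    omega
  obtain ⟨a, haA, ha1⟩ := exists_ne_one_of_ne_bot' hA1
  have ho : orderOf a = p := orderOf_eq_prime (hA a haA) ha1
  rw [← ho]
  exact orderOf_dvd_natCard a

end Cfsg.Agent.Lib.Helper1.BG14c
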