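import Mathlib
import Cfsg.Agent.Lib.Helper1.BG14c.PairA

set_option autoImplicit false

namespace Cfsg.Agent.Lib.Helper1.BG14c

open Cfsg Cfsg.Agent.Lib.Helper18 Cfsg.Agent.Lib.Helper28.BGt
open Cfsg.Agent.Lib.Helper1.BG14b

variable {G : Type*} [Group G] [Finite G]

theorem card_prime_of_not_typeP1 (hG : Cfsg.IsMinSimpleOddOrder G) {M K : Subgroup G}
    (hM : IsCoatom M) (hK : Cfsg.IsPiHallOf (Cfsg.kappa M) K M) (hK1 : K ≠ ⊥)
    (hσ1 : Cfsg.sigmaCore M ≠ ⊥) (hnP1 : ¬ TypeP1 M) : (Nat.card K).Prime := by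
  have hnP1' := hnP1
  unfold TypeP1 at hnP1'
  push Not at hnP1'
  obtain ⟨p, hp, hpM, hpσ, hpκ⟩ := hnP1'
  haveI : Fact p.Prime := ⟨hp⟩
  obtain ⟨h30a, ⟨U, hUc, hUH, hKU, hUfrob⟩, -⟩ := Cfsg.Agent.S1430.result hG M hM K hK hK1
  have hpπ : p ∈ {q : ℕ | q.Prime ∧ q ∉ Cfsg.kappa M ∧ q ∉ Cfsg.sigma M} := ⟨hp, hpκ, hpσ⟩
  obtain ⟨Q₀, hQ₀⟩ : ∃ Q₀ : Subgroup G, IsSylowIn p Q₀ U := by
    obtain ⟨S⟩ : Nonempty (Sylow p U) := inferInstance
    exact ⟨_, isSylowIn_of_sylow S⟩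
  have hQ₀M : IsSylowIn p Q₀ M := by
    refine ⟨hQ₀.le.trans hUH.1, hQ₀.isPGroup, ?_⟩
    rw [← Subgroup.relIndex_mul_relIndex Q₀ U M hQ₀.le hUH.1]
    intro hd
    rcases (Nat.Prime.dvd_mul hp).mp hd with h | h
    · exact hQ₀.not_dvd h
    · exact hUH.2.2 p hp hpπ h
  obtain ⟨S, hS⟩ := hQ₀M.exists_sylow
  have hSmap : (S : Subgroup M).map M.subtype = Q₀ := by
    rw [hS, Subgroup.map_subgroupOf_eq_of_le hQ₀M.le]
  obtain ⟨-, h29b, h29c⟩ := Cfsg.Agent.S1429.result hG M hM hnP1 p hpM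
    (by rintro (h | h); exact hpσ h; exact hpκ h) S
  have hA_le : Subgroup.closure {x : G | x ∈ (S : Subgroup M).map M.subtype ∧ x ^ p = 1} ≤ U := by
    rw [Subgroup.closure_le]
    rintro x ⟨hx, -⟩
    rw [hSmap] at hx
    exact hQ₀.le hx
  have hCU : Cfsg.sigmaCore M ⊓ Subgroup.centralizer (U : Set G) = ⊥ := by
    rw [eq_bot_iff, ← h29b]
    exact inf_le_inf_left _ (Subgroup.centralizer_le hA_le)
  have hU1 : U ≠ ⊥ := by
    intro h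
    apply hQ₀M.not_dvd
    have hQ₀b : Q₀ = ⊥ := by rw [eq_bot_iff, ← h]; exact hQ₀.le
    rw [hQ₀b, Subgroup.relIndex_bot_left]
    exact hpM
  have hUK : U ⊓ K = ⊥ := by
    apply Cfsg.Agent.Lib.Helper1.BG15.eq_bot_of_forall_prime_not_dvd
    intro q hq hqd
    have h1 := hUH.2.1 q hq (hqd.trans (Subgroup.card_dvd_of_le inf_le_left))
    exact h1.2.1 (hK.2.1 q hq (hqd.trans (Subgroup.card_dvd_of_le inf_le_right)))
  have hMs : Group.IsSolvable M := hG.2.2.2 M hM.1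
  have hUKM : U ⊔ K ≤ M := sup_le hUH.1 hK.1
  have hsolv : Group.IsSolvable ↥(U ⊔ K) :=
    solvable_of_solvable_injective (Subgroup.inclusion_injective hUKM)
  have hodd : Odd (Nat.card ↥(U ⊔ K)) :=
    Odd.of_dvd_nat hG.1 (Subgroup.card_subgroup_dvd_card _)
  have hcard : Nat.card ↥(U ⊔ K) = Nat.card K * Nat.card U := by
    rw [sup_comm]
    exact Cfsg.Agent.Lib.Helper1.BG12b.card_sup_of_inf_eq_bot hKU (by rw [inf_comm]; exact hUK)
  have hcop : (Nat.card ↥(U ⊔ K)).Coprime (Nat.card (Cfsg.sigmaCore M)) := by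
    apply Nat.coprime_of_dvd
    intro q hq h1 h2
    have hqσ : q ∈ Cfsg.sigma M := prime_sigmaCore hG hM hq h2
    rw [hcard] at h1
    rcases (Nat.Prime.dvd_mul hq).mp h1 with h | h
    · exact (hK.2.1 q hq h).2.2.1 hqσ
    · exact (hUH.2.1 q hq h).2.2 hqσ
  have h46 := Cfsg.Agent.S1446.result U K (Cfsg.sigmaCore M) hU1 hK1 hUK hKU hUfrob hsolv hodd
    hσ1 h29c (hUH.1.trans (le_normalizer_sigmaCore M)) (hK.1.trans (le_normalizer_sigmaCore M))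
    hcop hCU h30a
  exact h46.1

end Cfsg.Agent.Lib.Helper1.BG14c
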