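import Mathlib
import Cfsg.Agent.Lib.Helper1.BG14c.PairL1

set_option autoImplicit false

namespace Cfsg.Agent.Lib.Helper1.BG14c

open Cfsg Cfsg.Agent.Lib.Helper18 Cfsg.Agent.Lib.Helper28.BGt
open Cfsg.Agent.Lib.Helper1.BG14b

variable {G : Type*} [Group G] [Finite G]

structure Pair (M K X H : Subgroup G) : Prop where
  hG : Cfsg.IsMinSimpleOddOrder G
  hM : IsCoatom M
  hK : Cfsg.IsPiHallOf (Cfsg.kappa M) K M
  hKc : IsCyclic K
  hXK : X ≤ K
  hXc : (Nat.card X).Prime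
  hH : IsCoatom H
  hNH : Subgroup.normalizer (X : Set G) ≤ H

namespace Pair

variable {M K X H : Subgroup G}

theorem hX1 (c : Pair M K X H) : X ≠ ⊥ := ne_bot_of_card_prime' c.hXc rfl

theorem hK1 (c : Pair M K X H) : K ≠ ⊥ := by
  intro h
  apply c.hX1
  rw [eq_bot_iff, ← h]
  exact c.hXK

theorem Hκ (c : Pair M K X H) : ∀ p, p ∈ Cfsg.kappa M → p ∈ Cfsg.tau1 M :=
  Cfsg.Agent.Lib.Helper1.BG14.kappa_sub_tau1_of_cyclic c.hG c.hM c.hK c.hKc

theorem Ks1 (c : Pair M K X H) : Kst M K ≠ ⊥ :=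
  Cfsg.Agent.Lib.Helper21.BG14a.kappa_star_ne_bot c.hG c.hM c.Hκ c.hK

theorem K_comm (c : Pair M K X H) : ∀ a ∈ K, ∀ b ∈ K, a * b = b * a :=
  Cfsg.Agent.Lib.Helper21.BG14a.kappa_hall_comm c.hG c.Hκ c.hK

theorem Z_le_cent (c : Pair M K X H) : K ⊔ Kst M K ≤ Subgroup.centralizer (K : Set G) := by
  apply sup_le
  · intro a ha
    rw [Subgroup.mem_centralizer_iff]
    intro b hb
    exact c.K_comm b hb a ha
  · exact inf_le_right

theorem Z_le_normX (c : Pair M K X H) :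
    K ⊔ Kst M K ≤ Subgroup.normalizer (X : Set G) :=
  c.Z_le_cent.trans ((Subgroup.centralizer_le c.hXK).trans (Subgroup.centralizer_le_normalizer _))

theorem Z_le_H (c : Pair M K X H) : K ⊔ Kst M K ≤ H := c.Z_le_normX.trans c.hNH

theorem Z_le_M (c : Pair M K X H) : K ⊔ Kst M K ≤ M :=
  sup_le c.hK.1 (inf_le_left.trans (sigmaCore_le M))

theorem K_le_H (c : Pair M K X H) : K ≤ H := le_sup_left.trans c.Z_le_H

theorem Ks_le_H (c : Pair M K X H) : Kst M K ≤ H := le_sup_right.trans c.Z_le_H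

theorem cent_elt (c : Pair M K X H) : ∀ k ∈ K, k ≠ 1 →
    Cfsg.sigmaCore M ⊓ Subgroup.centralizer ({k} : Set G) = Kst M K :=
  (Cfsg.Agent.S1430.result c.hG M c.hM K c.hK c.hK1).1

theorem X_le_Hσ (c : Pair M K X H) : X ≤ Cfsg.sigmaCore H :=
  ((Cfsg.Agent.S1430.result c.hG M c.hM K c.hK c.hK1).2.2 X c.hXK c.hXc).2.2 H c.hH c.hNH

theorem MNX (c : Pair M K X H) : M ⊓ Subgroup.normalizer (X : Set G) = K ⊔ Kst M K :=
  ((Cfsg.Agent.S1430.result c.hG M c.hM K c.hK c.hK1).2.2 X c.hXK c.hXc).1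

theorem MNK (c : Pair M K X H) : M ⊓ Subgroup.normalizer (K : Set G) = K ⊔ Kst M K :=
  ((Cfsg.Agent.S1430.result c.hG M c.hM K c.hK c.hK1).2.2 X c.hXK c.hXc).2.1

theorem r_sigma_H (c : Pair M K X H) : Nat.card X ∈ Cfsg.sigma H :=
  prime_sigmaCore c.hG c.hH c.hXc (Subgroup.card_dvd_of_le c.X_le_Hσ)

omit [Finite G] in
theorem r_kappa_M (c : Pair M K X H) : Nat.card X ∈ Cfsg.kappa M :=
  c.hK.2.1 _ c.hXc (Subgroup.card_dvd_of_le c.hXK)

theorem nc (c : Pair M K X H) : ∀ g : G, H ≠ conjSub g M := by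
  intro g hg
  exact c.r_kappa_M.2.2.1 (sigma_of_conj' hg c.r_sigma_H)

theorem nc' (c : Pair M K X H) : ∀ g : G, M ≠ conjSub g H := by
  intro g hg
  exact c.r_kappa_M.2.2.1 (sigma_of_conj hg c.r_sigma_H)

theorem H_ne_M (c : Pair M K X H) : H ≠ M := by
  intro h
  apply c.nc 1
  rw [conjSub_one]
  exact h

theorem inf_bot (c : Pair M K X H) : Cfsg.sigmaCore M ⊓ Cfsg.sigmaCore H = ⊥ :=
  sigmaCore_inf_eq_bot c.hG c.hM c.hH c.nc

theorem exists_gen (c : Pair M K X H) : ∃ x ∈ X, x ≠ 1 := exists_ne_one_of_ne_bot' c.hX1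

theorem A5 (c : Pair M K X H) : Cfsg.sigmaCore M ⊓ H = Kst M K := by
  apply le_antisymm
  · intro d hd
    obtain ⟨x, hx, hx1⟩ := c.exists_gen
    have hcomm := commute_of_cross c.inf_bot hd.1 hd.2 (c.X_le_Hσ hx) (c.hK.1 (c.hXK hx))
    have h1 : d ∈ Cfsg.sigmaCore M ⊓ Subgroup.centralizer ({x} : Set G) := by
      refine Subgroup.mem_inf.mpr ⟨hd.1, ?_⟩
      rw [Subgroup.mem_centralizer_singleton_iff]
      exact hcomm
    rw [c.cent_elt x (c.hXK hx) hx1] at h1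
    exact h1
  · exact le_inf inf_le_left c.Ks_le_H

theorem cent_pow_le {y : G} (n : ℕ) :
    Subgroup.centralizer ({y} : Set G) ≤ Subgroup.centralizer ({y ^ n} : Set G) := by
  intro g hg
  rw [Subgroup.mem_centralizer_singleton_iff] at hg ⊢
  exact ((Commute.pow_right (show Commute g y from hg) n)).eq

theorem A6 (c : Pair M K X H) {y : G} (hy : y ∈ Kst M K) (hy1 : y ≠ 1) :
    ∀ p : ℕ, p.Prime → p ∣ orderOf y → p ∈ Cfsg.kappa H := by
  obtain ⟨x, hx, hx1⟩ := c.exists_gen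
  have hyC : y ∈ H ⊓ Subgroup.centralizer ({x} : Set G) := by
    refine Subgroup.mem_inf.mpr ⟨c.Ks_le_H hy, ?_⟩
    rw [Subgroup.mem_centralizer_singleton_iff]
    exact (Kst_comm x (c.hXK hx) y hy).symm
  have hσ : ∀ p : ℕ, p.Prime → p ∣ orderOf y → p ∉ Cfsg.sigma H := by
    intro p hp hpd hpH
    have hpM : p ∈ Cfsg.sigma M := primes_of_mem_sigmaCore c.hG c.hM hy.1 p hp hpd
    exact sigma_disjoint c.hG c.hM c.hH c.nc hpM hpH
  rcases Cfsg.Agent.S1432.result c.hG H c.hH x (c.X_le_Hσ hx) hx1 y hyC hy1 hσ with h | h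
  · exact h.1
  · exfalso
    obtain ⟨n, hn1, hn⟩ := Cfsg.Agent.Lib.Helper18.KStar.centralizer_pow_le c.hG c.hM c.hK c.hK1
      hy hy1
    have h1 : Subgroup.centralizer ({y} : Set G) ≤ M := (cent_pow_le n).trans hn
    exact c.H_ne_M (h.2.2.2 M c.hM h1).symm

theorem A7 (c : Pair M K X H) :
    ∀ q : ℕ, q.Prime → q ∣ Nat.card (Kst M K) → q ∈ Cfsg.kappa H := by
  intro q hq hqd
  have : Fact q.Prime := ⟨hq⟩
  obtain ⟨y, hy⟩ := exists_prime_orderOf_dvd_card' q hqd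
  have hyo : orderOf (y : G) = q := by rw [Subgroup.orderOf_coe, hy]
  have hy1 : (y : G) ≠ 1 := by
    intro h
    rw [h, orderOf_one] at hyo
    exact hq.one_lt.ne hyo
  exact c.A6 y.2 hy1 q hq (by rw [hyo])

theorem exists_K₁ (c : Pair M K X H) :
    ∃ K₁ : Subgroup G, Cfsg.IsPiHallOf (Cfsg.kappa H) K₁ H ∧ Kst M K ≤ K₁ := by
  have : Group.IsSolvable H := c.hG.2.2.2 H c.hH.1
  exact Cfsg.Agent.Lib.Helper11.LemLA.exists_piHallOf_ge (Cfsg.kappa H) H c.Ks_le_H c.A7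

end Pair

end Cfsg.Agent.Lib.Helper1.BG14c
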