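import Mathlib
import Cfsg.Agent.Lib.Helper1.BG14c.PairB

set_option autoImplicit false

namespace Cfsg.Agent.Lib.Helper1.BG14c

open Cfsg Cfsg.Agent.Lib.Helper18 Cfsg.Agent.Lib.Helper28.BGt
open Cfsg.Agent.Lib.Helper1.BG14b

variable {G : Type*} [Group G] [Finite G]

structure PairK (M K X H K₁ : Subgroup G) : Prop extends Pair M K X H where
  hK₁ : Cfsg.IsPiHallOf (Cfsg.kappa H) K₁ H
  hle : Kst M K ≤ K₁

namespace PairK

variable {M K X H K₁ : Subgroup G}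

theorem hK₁1 (d : PairK M K X H K₁) : K₁ ≠ ⊥ := by
  intro h
  apply d.toPair.Ks1
  rw [eq_bot_iff, ← h]
  exact d.hle

theorem cent_elt' (d : PairK M K X H K₁) : ∀ k ∈ K₁, k ≠ 1 →
    Cfsg.sigmaCore H ⊓ Subgroup.centralizer ({k} : Set G) = Kst H K₁ :=
  (Cfsg.Agent.S1430.result d.hG H d.hH K₁ d.hK₁ d.hK₁1).1

theorem exists_y (d : PairK M K X H K₁) : ∃ y ∈ Kst M K, y ≠ 1 :=
  exists_ne_one_of_ne_bot' d.toPair.Ks1

theorem B1 (d : PairK M K X H K₁) : K ⊓ Cfsg.sigmaCore H ≤ Kst H K₁ := by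
  intro w hw
  obtain ⟨y, hy, hy1⟩ := d.exists_y
  rw [← d.cent_elt' y (d.hle hy) hy1]
  refine Subgroup.mem_inf.mpr ⟨hw.2, ?_⟩
  rw [Subgroup.mem_centralizer_singleton_iff]
  exact Kst_comm w hw.1 y hy

theorem X_le (d : PairK M K X H K₁) : X ≤ Kst H K₁ :=
  (le_inf d.hXK d.toPair.X_le_Hσ).trans d.B1

theorem exists_P (d : PairK M K X H K₁) :
    ∃ (q : ℕ) (P : Subgroup G), q.Prime ∧ P ≤ Kst M K ∧ Nat.card P = q :=
  Cfsg.Agent.Lib.Helper18.KStar.exists_prime_card_le d.toPair.Ks1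

theorem HNP (d : PairK M K X H K₁) {q : ℕ} {P : Subgroup G} (hq : q.Prime) (hP : P ≤ Kst M K)
    (hPc : Nat.card P = q) :
    H ⊓ Subgroup.normalizer (P : Set G) = K₁ ⊔ Kst H K₁ :=
  ((Cfsg.Agent.S1430.result d.hG H d.hH K₁ d.hK₁ d.hK₁1).2.2 P (hP.trans d.hle)
    (by rw [hPc]; exact hq)).1

theorem NP_le_M (d : PairK M K X H K₁) {q : ℕ} {P : Subgroup G} (hq : q.Prime)
    (hP : P ≤ Kst M K) (hPc : Nat.card P = q) : Subgroup.normalizer (P : Set G) ≤ M := by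
  haveI : Fact q.Prime := ⟨hq⟩
  exact Cfsg.Agent.Lib.Helper18.KStar.normalizer_le_of_le_kstar d.hG d.hM d.hK d.toPair.hK1 hPc hP

theorem B3 (d : PairK M K X H K₁) : K₁ ⊔ Kst H K₁ ≤ M := by
  obtain ⟨q, P, hq, hP, hPc⟩ := d.exists_P
  rw [← d.HNP hq hP hPc]
  exact inf_le_right.trans (d.NP_le_M hq hP hPc)

theorem K₁_le_M (d : PairK M K X H K₁) : K₁ ≤ M := le_sup_left.trans d.B3

theorem K₁s_le_M (d : PairK M K X H K₁) : Kst H K₁ ≤ M := le_sup_right.trans d.B3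

theorem inf_bot' (d : PairK M K X H K₁) : Cfsg.sigmaCore H ⊓ Cfsg.sigmaCore M = ⊥ := by
  rw [inf_comm]; exact d.toPair.inf_bot

theorem B4 (d : PairK M K X H K₁) : Cfsg.sigmaCore H ⊓ M = Kst H K₁ := by
  apply le_antisymm
  · intro w hw
    obtain ⟨y, hy, hy1⟩ := d.exists_y
    have hcomm := commute_of_cross d.inf_bot' hw.1 hw.2 hy.1 (d.toPair.Ks_le_H hy)
    rw [← d.cent_elt' y (d.hle hy) hy1]
    refine Subgroup.mem_inf.mpr ⟨hw.1, ?_⟩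
    rw [Subgroup.mem_centralizer_singleton_iff]
    exact hcomm
  · exact le_inf inf_le_left d.K₁s_le_M

theorem B5elt (d : PairK M K X H K₁) {w : G} (hw : w ∈ Kst H K₁) (hw1 : w ≠ 1) :
    ∀ p : ℕ, p.Prime → p ∣ orderOf w → p ∈ Cfsg.kappa M := by
  obtain ⟨y, hy, hy1⟩ := d.exists_y
  have hwC : w ∈ M ⊓ Subgroup.centralizer ({y} : Set G) := by
    refine Subgroup.mem_inf.mpr ⟨d.K₁s_le_M hw, ?_⟩
    rw [Subgroup.mem_centralizer_singleton_iff]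
    exact (Kst_comm y (d.hle hy) w hw).symm
  have hσ : ∀ p : ℕ, p.Prime → p ∣ orderOf w → p ∉ Cfsg.sigma M := by
    intro p hp hpd hpM
    have hpH : p ∈ Cfsg.sigma H := primes_of_mem_sigmaCore d.hG d.hH hw.1 p hp hpd
    exact sigma_disjoint d.hG d.hM d.hH d.toPair.nc hpM hpH
  rcases Cfsg.Agent.S1432.result d.hG M d.hM y hy.1 hy1 w hwC hw1 hσ with h | h
  · exact h.1
  · exfalso
    obtain ⟨n, hn1, hn⟩ := Cfsg.Agent.Lib.Helper18.KStar.centralizer_pow_le d.hG d.hH d.hK₁ d.hK₁1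
      hw hw1
    have h1 : Subgroup.centralizer ({w} : Set G) ≤ H := (Pair.cent_pow_le n).trans hn
    exact d.toPair.H_ne_M (h.2.2.2 H d.hH h1)

theorem B5 (d : PairK M K X H K₁) :
    ∀ q : ℕ, q.Prime → q ∣ Nat.card (Kst H K₁) → q ∈ Cfsg.kappa M := by
  intro q hq hqd
  have : Fact q.Prime := ⟨hq⟩
  obtain ⟨y, hy⟩ := exists_prime_orderOf_dvd_card' q hqd
  have hyo : orderOf (y : G) = q := by rw [Subgroup.orderOf_coe, hy]
  have hy1 : (y : G) ≠ 1 := by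
    intro h
    rw [h, orderOf_one] at hyo
    exact hq.one_lt.ne hyo
  exact d.B5elt y.2 hy1 q hq (by rw [hyo])

theorem B6 (d : PairK M K X H K₁) : Kst H K₁ ≤ K := by
  have hMs : Group.IsSolvable M := d.hG.2.2.2 M d.hM.1
  obtain ⟨m, hm, hconj⟩ := piHall_conj_into hMs d.hK d.K₁s_le_M d.B5
  have hX' : conjSub m⁻¹ X ≤ K := by
    intro z hz
    rw [mem_conjSub] at hz
    have h1 := hconj _ (d.X_le hz)
    have e : m⁻¹ * (m⁻¹⁻¹ * z * m⁻¹) * m = z := by group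
    rw [e] at h1
    exact h1
  have hX'X : conjSub m⁻¹ X ≤ X :=
    Cfsg.Agent.Lib.Helper21.cyclic_le_of_card_dvd' K _ _ d.hKc hX' d.hXK
      (by rw [card_conjSub])
  have hmN : m⁻¹ ∈ Subgroup.normalizer (X : Set G) := mem_normalizer_of_conjSub_le hX'X
  have hmZ : m⁻¹ ∈ M ⊓ Subgroup.normalizer (X : Set G) :=
    Subgroup.mem_inf.mpr ⟨M.inv_mem hm, hmN⟩
  rw [d.toPair.MNX, ← d.toPair.MNK] at hmZ
  have hmK := hmZ.2
  intro w hw
  have h1 := hconj w hw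
  have h2 := (Subgroup.mem_normalizer_iff.mp hmK w).mpr
  apply h2
  rw [inv_inv]
  exact h1

theorem B7 (d : PairK M K X H K₁) : K₁ ≤ K ⊔ Kst M K := by
  intro a ha
  rw [← d.toPair.MNX]
  refine Subgroup.mem_inf.mpr ⟨d.K₁_le_M ha, ?_⟩
  apply Subgroup.centralizer_le_normalizer
  rw [Subgroup.mem_centralizer_iff]
  intro x hx
  exact (Kst_comm a ha x (d.X_le hx)).symm

theorem K_le (d : PairK M K X H K₁) : K ≤ K₁ ⊔ Kst H K₁ := by
  obtain ⟨q, P, hq, hP, hPc⟩ := d.exists_P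
  rw [← d.HNP hq hP hPc]
  intro k hk
  refine Subgroup.mem_inf.mpr ⟨d.toPair.K_le_H hk, ?_⟩
  apply Subgroup.centralizer_le_normalizer
  rw [Subgroup.mem_centralizer_iff]
  intro y hy
  exact (Kst_comm k hk y (hP hy)).symm

theorem T_eq (d : PairK M K X H K₁) : K ⊔ Kst M K = K₁ ⊔ Kst H K₁ := by
  apply le_antisymm
  · exact sup_le d.K_le (d.hle.trans le_sup_left)
  · exact sup_le d.B7 (d.B6.trans le_sup_left)

theorem K_decomp (d : PairK M K X H K₁) {k : G} (hk : k ∈ K) :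
    ∃ a ∈ K ⊓ K₁, ∃ b ∈ Kst H K₁, k = a * b := by
  obtain ⟨a, ha, b, hb, rfl⟩ :=
    Cfsg.Agent.Lib.Helper18.BGTwelveD.mem_sup_of_commute Kst_comm (d.K_le hk)
  refine ⟨a, Subgroup.mem_inf.mpr ⟨?_, ha⟩, b, hb, rfl⟩
  have e : a = a * b * b⁻¹ := by group
  rw [e]
  exact K.mul_mem hk (K.inv_mem (d.B6 hb))

theorem K₁_inf_Hσ (d : PairK M K X H K₁) : K₁ ⊓ Cfsg.sigmaCore H = ⊥ :=
  Cfsg.Agent.Lib.Helper1.BG15.kappa_inf_sigmaCore d.hG d.hH d.hK₁.2.1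

theorem good_of_le (d : PairK M K X H K₁) (hKH : K ≤ Cfsg.sigmaCore H) :
    K₁ = Kst M K ∧ Kst H K₁ = K := by
  have h1 : K₁ = Kst M K := by
    apply le_antisymm _ d.hle
    intro a ha
    obtain ⟨k, hk, y, hy, rfl⟩ :=
      Cfsg.Agent.Lib.Helper18.BGTwelveD.mem_sup_of_commute Kst_comm (d.B7 ha)
    have hk1 : k ∈ K₁ := by
      have e : k = k * y * y⁻¹ := by group
      rw [e]
      exact K₁.mul_mem ha (K₁.inv_mem (d.hle hy))
    have hk2 : k ∈ K₁ ⊓ Cfsg.sigmaCore H := Subgroup.mem_inf.mpr ⟨hk1, hKH hk⟩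
    rw [d.K₁_inf_Hσ, Subgroup.mem_bot] at hk2
    rw [hk2, one_mul]
    exact hy
  refine ⟨h1, le_antisymm d.B6 ?_⟩
  intro k hk
  refine Subgroup.mem_inf.mpr ⟨hKH hk, ?_⟩
  rw [Subgroup.mem_centralizer_iff]
  intro y hy
  rw [h1] at hy
  exact (Kst_comm k hk y hy).symm

end PairK

end Cfsg.Agent.Lib.Helper1.BG14c
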