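import Mathlib
import Cfsg.Agent.Lib.Helper1.BG14c.PairC
import Cfsg.Agent.Lib.Helper13.BG14Cyc

set_option autoImplicit false

namespace Cfsg.Agent.Lib.Helper1.BG14c

open Cfsg Cfsg.Agent.Lib.Helper18 Cfsg.Agent.Lib.Helper28.BGt
open Cfsg.Agent.Lib.Helper1.BG14b

variable {G : Type*} [Group G] [Finite G]

namespace PairK

variable {M K X H K₁ : Subgroup G}

theorem unique_over (d : PairK M K X H K₁) {X' L' : Subgroup G} (hX' : X' ≤ Kst H K₁)
    (hX'c : (Nat.card X').Prime) (hL' : IsCoatom L')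
    (hN : Subgroup.normalizer (X' : Set G) ≤ L') : L' = H := by
  obtain ⟨q, P, hq, hP, hPc⟩ := d.exists_P
  haveI : Fact q.Prime := ⟨hq⟩
  haveI : Fact (Nat.card X').Prime := ⟨hX'c⟩
  have hPK₁ : P ≤ K₁ := hP.trans d.hle
  have hqκ : q ∈ Cfsg.kappa H :=
    d.hK₁.2.1 q hq (by rw [← hPc]; exact Subgroup.card_dvd_of_le hPK₁)
  exact eq_of_normalizer_le_of_kappa_cent d.hG d.hH hqκ.2.2.1
    (Cfsg.Agent.Lib.Helper1.BG14.kappa_pRankLE_one hqκ) hPc (hPK₁.trans d.hK₁.1) rfl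
    (hX'.trans inf_le_left) (hX'.trans (inf_le_right.trans (Subgroup.centralizer_le hPK₁)))
    hL' hN

theorem eq_of_sigma (d : PairK M K X H K₁) {X' L' : Subgroup G} (d' : Pair M K X' L')
    (h : Nat.card X' ∈ Cfsg.sigma H) : L' = H := by
  haveI : Fact (Nat.card X').Prime := ⟨d'.hXc⟩
  have hX'H : X' ≤ H := d'.hXK.trans d.toPair.K_le_H
  have hX'p : IsPGroup (Nat.card X') X' := IsPGroup.of_card (n := 1) (by rw [pow_one])
  have hX'σ : X' ≤ Cfsg.sigmaCore H :=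
    Cfsg.Agent.Lib.Helper1.BG12.pgroup_le_sigmaCore d.hG H d.hH _ h X' hX'H hX'p
  exact d.unique_over ((le_inf d'.hXK hX'σ).trans d.B1) d'.hXc d'.hH d'.hNH

theorem partner_nc (d : PairK M K X H K₁) {X' L' : Subgroup G} (d' : Pair M K X' L')
    (hne : L' ≠ H) : ∀ g : G, L' ≠ conjSub g H := by
  intro g hg
  exact hne (d.eq_of_sigma d' (sigma_of_conj' hg d'.r_sigma_H))

theorem partner_inf (d : PairK M K X H K₁) {X' L' : Subgroup G} (d' : Pair M K X' L')
    (hne : L' ≠ H) : Cfsg.sigmaCore H ⊓ L' ≤ K ⊔ Kst M K := by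
  have hbot := sigmaCore_inf_eq_bot d.hG d.hH d'.hH (d.partner_nc d' hne)
  obtain ⟨x', hx', hx'1⟩ := d'.exists_gen
  intro e he
  have hcomm := commute_of_cross hbot he.1 he.2 (d'.X_le_Hσ hx')
    (d.toPair.K_le_H (d'.hXK hx'))
  obtain ⟨a, ha, b, hb, hab⟩ := d.K_decomp (d'.hXK hx')
  have hr' := d'.hXc
  haveI : Fact (Nat.card X').Prime := ⟨hr'⟩
  have hxo : x' ^ Nat.card X' = 1 := by
    have := pow_card_eq_one' (G := X') (x := ⟨x', hx'⟩)
    exact congrArg Subtype.val this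
  have hac : Commute a x' := d.toPair.K_comm a ha.1 x' (d'.hXK hx')
  have hb_eq : b = a⁻¹ * x' := by rw [hab]; group
  have hbpow : b ^ Nat.card X' = (a⁻¹) ^ Nat.card X' := by
    rw [hb_eq, (hac.inv_left).mul_pow, hxo, mul_one]
  have hb1 : b ^ Nat.card X' = 1 := by
    have h1 : b ^ Nat.card X' ∈ K₁ ⊓ Cfsg.sigmaCore H := by
      refine Subgroup.mem_inf.mpr ⟨?_, (Cfsg.sigmaCore H).pow_mem hb.1 _⟩
      rw [hbpow]
      exact K₁.pow_mem (K₁.inv_mem ha.2) _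
    rwa [d.K₁_inf_Hσ, Subgroup.mem_bot] at h1
  have hbone : b = 1 := by
    by_contra hbne
    have ho : orderOf b = Nat.card X' := orderOf_eq_prime hb1 hbne
    have hσ : Nat.card X' ∈ Cfsg.sigma H := by
      apply prime_sigmaCore d.hG d.hH hr'
      rw [← ho]
      exact Subgroup.orderOf_dvd_natCard _ hb.1
    exact hne (d.eq_of_sigma d' hσ)
  have hx'a : x' = a := by rw [hab, hbone, mul_one]
  have he2 : e ∈ Cfsg.sigmaCore H ⊓ Subgroup.centralizer ({x'} : Set G) := by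
    refine Subgroup.mem_inf.mpr ⟨he.1, ?_⟩
    rw [Subgroup.mem_centralizer_singleton_iff]
    exact hcomm
  rw [d.cent_elt' x' (by rw [hx'a]; exact ha.2) hx'1] at he2
  exact Subgroup.mem_sup_left (d.B6 he2)

theorem typeP1_H (d : PairK M K X H K₁) (hb : ¬ K ≤ Cfsg.sigmaCore H) : TypeP1 H := by
  by_contra hn
  have hσ1 : Cfsg.sigmaCore H ≠ ⊥ := by
    intro h
    apply d.toPair.hX1
    rw [eq_bot_iff, ← h]
    exact d.toPair.X_le_Hσ
  have hpr := card_prime_of_not_typeP1 d.hG d.hH d.hK₁ d.hK₁1 hσ1 hn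
  have hKs : Kst M K = K₁ := by
    apply Subgroup.eq_of_le_of_card_ge d.hle
    have h1 : Nat.card (Kst M K) ∣ Nat.card K₁ := Subgroup.card_dvd_of_le d.hle
    rcases (Nat.dvd_prime hpr).mp h1 with h | h
    · exact absurd (Subgroup.card_eq_one.mp h) d.toPair.Ks1
    · exact h.ge
  apply hb
  intro k hk
  obtain ⟨a, ha, b, hb', rfl⟩ := d.K_decomp hk
  have ha1 : a ∈ K ⊓ Kst M K := by rw [hKs]; exact ha
  rw [K_inf_Kst d.hG d.hM d.hK.2.1, Subgroup.mem_bot] at ha1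
  rw [ha1, one_mul]
  exact hb'.1

end PairK

namespace Pair

variable {M K X H : Subgroup G}

theorem typeP1_M (c : Pair M K X H) (hb : ¬ K ≤ Cfsg.sigmaCore H) : TypeP1 M := by
  by_contra hn
  have hσ1 : Cfsg.sigmaCore M ≠ ⊥ := by
    intro h
    apply c.Ks1
    rw [eq_bot_iff, ← h]
    exact inf_le_left
  have hpr := card_prime_of_not_typeP1 c.hG c.hM c.hK c.hK1 hσ1 hn
  have hXK : X = K := by
    apply Subgroup.eq_of_le_of_card_ge c.hXK
    have h1 : Nat.card X ∣ Nat.card K := Subgroup.card_dvd_of_le c.hXK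
    rcases (Nat.dvd_prime hpr).mp h1 with h | h
    · exact absurd (Subgroup.card_eq_one.mp h) c.hX1
    · exact h.ge
  apply hb
  rw [← hXK]
  exact c.X_le_Hσ

end Pair

end Cfsg.Agent.Lib.Helper1.BG14c
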