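import Mathlib
import Cfsg.Agent.Lib.Helper1.BG14c.PairD

set_option autoImplicit false

namespace Cfsg.Agent.Lib.Helper1.BG14c

open Cfsg Cfsg.Agent.Lib.Helper18 Cfsg.Agent.Lib.Helper28.BGt
open Cfsg.Agent.Lib.Helper1.BG14b

variable {G : Type*} [Group G] [Finite G]

def IsPartner (M K L : Subgroup G) : Prop :=
  ∃ X : Subgroup G, Pair M K X L

theorem exists_pair (hG : Cfsg.IsMinSimpleOddOrder G) {M K : Subgroup G} (hM : IsCoatom M)
    (hK : Cfsg.IsPiHallOf (Cfsg.kappa M) K M) (hKc : IsCyclic K) {X : Subgroup G}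
    (hXK : X ≤ K) (hXc : (Nat.card X).Prime) : ∃ H : Subgroup G, Pair M K X H := by
  haveI : IsSimpleGroup G := hG.2.1
  have hX1 : X ≠ ⊥ := ne_bot_of_card_prime' hXc rfl
  have hXtop : X ≠ ⊤ := fun h => hM.1 (top_le_iff.mp (h ▸ hXK.trans hK.1))
  obtain ⟨H, hH, hNH⟩ := Cfsg.Agent.Lib.Helper11.BenderE.exists_coatom_ge _
    (Cfsg.Agent.Lib.Helper11.normalizer_ne_top_of_simple hX1 hXtop)
  exact ⟨H, ⟨hG, hM, hK, hKc, hXK, hXc, hH, hNH⟩⟩

theorem Pair.exists_pairK {M K X H : Subgroup G} (c : Pair M K X H) :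
    ∃ K₁ : Subgroup G, PairK M K X H K₁ := by
  obtain ⟨K₁, h1, h2⟩ := c.exists_K₁
  exact ⟨K₁, ⟨c, h1, h2⟩⟩

theorem eq_of_coatom_le {A B : Subgroup G} (hA : IsCoatom A) (hB : IsCoatom B) (h : A ≤ B) :
    A = B := by
  by_contra hne
  exact hB.1 (hA.2 B (lt_of_le_of_ne h hne))

theorem exists_good (hG : Cfsg.IsMinSimpleOddOrder G) {M K : Subgroup G} (hM : IsCoatom M)
    (hK : Cfsg.IsPiHallOf (Cfsg.kappa M) K M) (hKc : IsCyclic K) (hK1 : K ≠ ⊥) :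
    ∃ X H : Subgroup G, Pair M K X H ∧ K ≤ Cfsg.sigmaCore H := by
  by_contra hcon
  push Not at hcon
  obtain ⟨r₀, X₀, hr₀, hX₀K, hX₀c⟩ := Cfsg.Agent.Lib.Helper18.KStar.exists_prime_card_le hK1
  obtain ⟨H₀, c₀⟩ := exists_pair hG hM hK hKc hX₀K (by rw [hX₀c]; exact hr₀)
  have hP1M : TypeP1 M := c₀.typeP1_M (hcon X₀ H₀ c₀)
  have hfacM := typeP1_fac hG hM hP1M hK
  have hcomm : ∀ a ∈ K, ∀ b ∈ Kst M K, a * b = b * a := Kst_comm
  have hcardT : Nat.card ↥(K ⊔ Kst M K) = Nat.card K * Nat.card (Kst M K) := by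
    apply Cfsg.Agent.Lib.Helper1.BG12b.card_sup_of_inf_eq_bot _ (K_inf_Kst hG hM hK.2.1)
    intro k hk
    apply Subgroup.centralizer_le_normalizer
    rw [Subgroup.mem_centralizer_iff]
    intro y hy
    exact (Kst_comm k hk y hy).symm
  apply Cfsg.Agent.Lib.Helper13.BG14.bg14_cycle_false hG
    (ι := {L : Subgroup G // L = M ∨ IsPartner M K L}) (fun i => i.1) (K ⊔ Kst M K)
  · rintro ⟨L, rfl | ⟨X, c⟩⟩
    · exact hM
    · exact c.hH
  · rintro ⟨L, hL⟩ ⟨L', hL'⟩ hij g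
    have hne : L ≠ L' := fun h => hij (Subtype.ext h)
    rcases hL with rfl | ⟨X, c⟩
    · rcases hL' with rfl | ⟨X', c'⟩
      · exact absurd rfl hne
      · exact c'.nc g
    · rcases hL' with rfl | ⟨X', c'⟩
      · exact c.nc' g
      · obtain ⟨K₁, d⟩ := c.exists_pairK
        exact d.partner_nc c' (Ne.symm hne) g
  · rintro ⟨L, rfl | ⟨X, c⟩⟩
    · exact c₀.Z_le_M
    · exact c.Z_le_H
  · rintro ⟨L, rfl | ⟨X, c⟩⟩ m hm
    · obtain ⟨s, hs, t, ht, rfl⟩ := hfacM m hm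
      exact ⟨s, hs, t, Subgroup.mem_sup_left ht, rfl⟩
    · obtain ⟨K₁, d⟩ := c.exists_pairK
      obtain ⟨s, hs, t, ht, rfl⟩ :=
        typeP1_fac hG c.hH (d.typeP1_H (hcon X L c)) d.hK₁ m hm
      exact ⟨s, hs, t, d.B7 ht, rfl⟩
  · rintro ⟨L, rfl | ⟨X, c⟩⟩ hle
    · apply c₀.H_ne_M
      symm
      apply eq_of_coatom_le hM c₀.hH
      intro m hm
      obtain ⟨s, hs, t, ht, rfl⟩ := hfacM m hm
      exact H₀.mul_mem (c₀.Z_le_H (hle hs)) (c₀.K_le_H ht)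
    · obtain ⟨K₁, d⟩ := c.exists_pairK
      apply c.H_ne_M
      apply eq_of_coatom_le c.hH hM
      intro m hm
      obtain ⟨s, hs, t, ht, rfl⟩ :=
        typeP1_fac hG c.hH (d.typeP1_H (hcon X L c)) d.hK₁ m hm
      exact M.mul_mem (c.Z_le_M (hle hs)) (d.K₁_le_M ht)
  · rintro ⟨L, rfl | ⟨X, c⟩⟩ x hx hx1
    · have hxK : x ∈ Kst L K := Subgroup.mem_inf.mpr ⟨hx.2, c₀.Z_le_cent hx.1⟩
      obtain ⟨n, -, hn⟩ := Cfsg.Agent.Lib.Helper18.KStar.centralizer_pow_le hG hM hK hK1 hxK hx1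
      exact (Pair.cent_pow_le n).trans hn
    · obtain ⟨K₁, d⟩ := c.exists_pairK
      have hxK : x ∈ Kst L K₁ := by
        rw [← d.B4]
        exact Subgroup.mem_inf.mpr ⟨hx.2, c.Z_le_M hx.1⟩
      obtain ⟨n, -, hn⟩ :=
        Cfsg.Agent.Lib.Helper18.KStar.centralizer_pow_le hG c.hH d.hK₁ d.hK₁1 hxK hx1
      exact (Pair.cent_pow_le n).trans hn
  · rintro ⟨L, hL⟩ ⟨L', hL'⟩ hij
    have hne : L ≠ L' := fun h => hij (Subtype.ext h)
    rcases hL with rfl | ⟨X, c⟩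
    · rcases hL' with rfl | ⟨X', c'⟩
      · exact absurd rfl hne
      · show Cfsg.sigmaCore L ⊓ L' ≤ K ⊔ Kst L K
        rw [c'.A5]
        exact le_sup_right
    · rcases hL' with rfl | ⟨X', c'⟩
      · obtain ⟨K₁, d⟩ := c.exists_pairK
        show Cfsg.sigmaCore L ⊓ L' ≤ K ⊔ Kst L' K
        rw [d.B4]
        exact d.B6.trans le_sup_left
      · obtain ⟨K₁, d⟩ := c.exists_pairK
        exact d.partner_inf c' (Ne.symm hne)
  · rintro ⟨L, rfl | ⟨X, c⟩⟩ p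
    · exact not_tau2_of_typeP1 hP1M p
    · obtain ⟨K₁, d⟩ := c.exists_pairK
      exact not_tau2_of_typeP1 (d.typeP1_H (hcon X L c)) p
  · intro p hp hpd
    rw [hcardT] at hpd
    rcases (Nat.Prime.dvd_mul hp).mp hpd with h | h
    · haveI : Fact p.Prime := ⟨hp⟩
      obtain ⟨x, hx⟩ := exists_prime_orderOf_dvd_card' p h
      have hXp : Nat.card (Subgroup.zpowers (x : G)) = p := by
        rw [Nat.card_zpowers, Subgroup.orderOf_coe, hx]
      have hXpK : Subgroup.zpowers (x : G) ≤ K := by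
        rw [Subgroup.zpowers_le]; exact x.2
      obtain ⟨L, c⟩ := exists_pair hG hM hK hKc hXpK (by rw [hXp]; exact hp)
      refine ⟨⟨L, Or.inr ⟨_, c⟩⟩, ?_⟩
      have := c.r_sigma_H
      rw [hXp] at this
      exact this
    · exact ⟨⟨M, Or.inl rfl⟩, prime_sigmaCore hG hM hp
        (h.trans (Subgroup.card_dvd_of_le inf_le_left))⟩
  · exact ⟨⟨M, Or.inl rfl⟩, ⟨H₀, Or.inr ⟨X₀, c₀⟩⟩, fun h => c₀.H_ne_M (congrArg Subtype.val h).symm⟩

end Cfsg.Agent.Lib.Helper1.BG14c
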