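import Mathlib
import Cfsg.Agent.Lib.Helper1.BG14c.PairE

set_option autoImplicit false

namespace Cfsg.Agent.Lib.Helper1.BG14c

open Cfsg Cfsg.Agent.Lib.Helper18 Cfsg.Agent.Lib.Helper28.BGt
open Cfsg.Agent.Lib.Helper1.BG14b

variable {G : Type*} [Group G] [Finite G]

theorem unique_over_star (hG : Cfsg.IsMinSimpleOddOrder G) {N Q X L : Subgroup G}
    (hN : IsCoatom N) (hQ : Cfsg.IsPiHallOf (Cfsg.kappa N) Q N) (hQ1 : Q ≠ ⊥)
    (hX : X ≤ Kst N Q) (hXc : (Nat.card X).Prime) (hL : IsCoatom L)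
    (hNL : Subgroup.normalizer (X : Set G) ≤ L) : L = N := by
  obtain ⟨q, P, hq, hP, hPc⟩ := Cfsg.Agent.Lib.Helper18.KStar.exists_prime_card_le hQ1
  haveI : Fact q.Prime := ⟨hq⟩
  haveI : Fact (Nat.card X).Prime := ⟨hXc⟩
  have hqκ : q ∈ Cfsg.kappa N :=
    hQ.2.1 q hq (by rw [← hPc]; exact Subgroup.card_dvd_of_le hP)
  exact eq_of_normalizer_le_of_kappa_cent hG hN hqκ.2.2.1
    (Cfsg.Agent.Lib.Helper1.BG14.kappa_pRankLE_one hqκ) hPc (hP.trans hQ.1) rfl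
    (hX.trans inf_le_left) (hX.trans (inf_le_right.trans (Subgroup.centralizer_le hP)))
    hL hNL

theorem star_exists_unique (hG : Cfsg.IsMinSimpleOddOrder G) {M K : Subgroup G}
    (hM : IsCoatom M) (hK : Cfsg.IsPiHallOf (Cfsg.kappa M) K M) (hKc : IsCyclic K)
    (hK1 : K ≠ ⊥) :
    ∃! Mstar : Subgroup G, IsCoatom Mstar ∧ K = Kst Mstar (Kst M K) ∧
      Cfsg.IsPiHallOf (Cfsg.kappa Mstar) (Kst M K) Mstar := by
  obtain ⟨X, H, c, hKH⟩ := exists_good hG hM hK hKc hK1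
  obtain ⟨K₁, d⟩ := c.exists_pairK
  obtain ⟨h1, h2⟩ := d.good_of_le hKH
  refine ⟨H, ⟨c.hH, ?_, ?_⟩, ?_⟩
  · rw [← h1]; exact h2.symm
  · rw [← h1]; exact d.hK₁
  · rintro N ⟨hN, hNK, hNH⟩
    have hX : X ≤ Kst N (Kst M K) := by rw [← hNK]; exact c.hXK
    exact (unique_over_star hG hN hNH c.Ks1 hX c.hXc c.hH c.hNH).symm

end Cfsg.Agent.Lib.Helper1.BG14c
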